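import Groth.Agent.AlgSp.K622.PicKer
import Groth.Agent.S1184
import Mathlib.AlgebraicGeometry.AlgClosed.Basic

/-!
# Classes on a smooth curve which are trivial off finitely many closed points are finitely generated
-/

set_option autoImplicit false
universe u

open CategoryTheory CategoryTheory.Limits AlgebraicGeometry Opposite TopologicalSpace

namespace K986.BdryGen

open Groth.Agent Groth.Agent.Grpsch.PicGrp K622.PicKer

variable {K : Type u} [Field K] [IsAlgClosed K] {X U : Scheme.{u}}

/-- The ideal sheaf of a rational point of a smooth curve. -/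
theorem isEff_point (p : X ⟶ Spec (CommRingCat.of K)) [SmoothOfRelativeDimension 1 p] [IsSeparated p]
    (s : Spec (CommRingCat.of K) ⟶ X) (hs : s ≫ p = 𝟙 _) :
    IsClosedImmersion s ∧ BlowUp.IsEffCartierIdeal s.ker ∧ IsIntegral s.ker.subscheme ∧
      (s.ker.support : Set X) = Set.range s := by
  have hc : IsClosedImmersion s := isClosedImmersion_of_comp_eq_id p s hs
  have h1 : s.toImage ≫ s.ker.subschemeι = s := s.toImage_imageι
  have h2 : IsIso s.toImage := inferInstance
  have h3 : s.ker.subschemeι ≫ p = inv s.toImage := by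
    rw [← cancel_epi s.toImage, ← Category.assoc, h1, hs, IsIso.hom_inv_id]
  refine ⟨hc, ?_, ?_, ?_⟩
  · refine ((S1184.result p s.ker).2 ?_).1
    rw [h3]
    exact ⟨inferInstance, inferInstance, inferInstance⟩
  · have : Nonempty s.ker.subscheme := ⟨s.toImage (IsLocalRing.closedPoint K)⟩
    exact isIntegral_of_isOpenImmersion (inv s.toImage)
  · rw [Scheme.Hom.support_ker, IsClosed.closure_eq]
    exact s.isClosedEmbedding.isClosed_range

theorem exists_finite_gen [IsIntegral X] [IsNoetherian X] (p : X ⟶ Spec (CommRingCat.of K))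
    [SmoothOfRelativeDimension 1 p] [IsSeparated p] (j : U ⟶ X) [IsOpenImmersion j] [Nonempty U]
    (hfin : (Set.range j)ᶜ.Finite) (hcl : ∀ y ∈ (Set.range j)ᶜ, IsClosed ({y} : Set X)) :
    ∃ S : Set (Additive (Pic X)), S.Finite ∧ ∀ M : Pic X, pull j M = 1 →
      Additive.ofMul M ∈ AddSubgroup.closure S := by
  have hsm : Smooth p := SmoothOfRelativeDimension.smooth 1 p
  have hfin' : Finite ((Set.range j)ᶜ : Set X) := hfin
  obtain ⟨r, ⟨e⟩⟩ := Finite.exists_equiv_fin ((Set.range j)ᶜ : Set X)
  let s : Fin r → (Spec (CommRingCat.of K) ⟶ X) := fun i =>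
    pointOfClosedPoint p (e.symm i).1 (hcl _ (e.symm i).2)
  have hs : ∀ i, s i ≫ p = 𝟙 _ := fun i => pointOfClosedPoint_comp p _ _
  have hrange : ∀ i, Set.range (s i) = {(e.symm i).1} := by
    intro i
    ext y
    constructor
    · rintro ⟨a, rfl⟩
      exact pointOfClosedPoint_apply p _ _ a
    · rintro rfl
      exact ⟨IsLocalRing.closedPoint K, pointOfClosedPoint_apply p _ _ _⟩
  have h := fun i => isEff_point p (s i) (hs i)
  refine ⟨Set.range fun i : Fin r => Additive.ofMul (ic (s i).ker (h i).2.1), Set.finite_range _, fun M hM => ?_⟩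
  obtain ⟨b, hb⟩ := exists_prod j (fun i => (s i).ker) (fun i => (h i).2.1) (fun i => (h i).2.2.1) (by
    ext y
    rw [← compl_compl (Set.range j)]
    simp only [Set.mem_compl_iff, Set.mem_iUnion, not_exists, not_not]
    constructor
    · intro hy i hi
      rw [(h i).2.2.2, hrange i] at hi
      rw [Set.mem_singleton_iff.mp hi] at hy
      exact (e.symm i).2 hy
    · intro hy
      by_contra hy'
      refine hy (e ⟨y, hy'⟩) ?_
      rw [(h _).2.2.2, hrange, Equiv.symm_apply_apply]
      rfl) M hM
  rw [hb, ofMul_prod]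
  refine AddSubgroup.sum_mem _ fun i _ => ?_
  rw [ofMul_zpow]
  exact AddSubgroup.zsmul_mem _ (AddSubgroup.subset_closure (Set.mem_range_self i)) _

end K986.BdryGen
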