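import Groth.Agent.Ega2.GeoCompactField
import Groth.Agent.Pic13.H557.GeoOpen
import Groth.Agent.CurvesA.CSpecD1
import Groth.Agent.Flat2B.SmoothGeom
import Groth.Prelude.Def_Curve

/-!
# The smooth compactification of a smooth geometrically irreducible curve over a perfect field
-/

set_option autoImplicit false
universe u

open CategoryTheory CategoryTheory.Limits AlgebraicGeometry

namespace K986.Compact

open Groth.Agent Groth.Agent.Ega2

theorem isIntegral_of_geometricallyIntegral {k : Type u} [Field k] {X : Scheme.{u}} (a : X ⟶ Spec (CommRingCat.of k))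
    [GeometricallyIntegral a] : IsIntegral X :=
  GeometricallyIntegral.geometrically_isIntegral (f := a) (K := k) (𝟙 _) (𝟙 _) a
    (IsPullback.of_horiz_isIso ⟨by rw [Category.comp_id, Category.id_comp]⟩)

theorem exists_compact (k : Type u) [Field k] [PerfectField k] {X₀ : Scheme.{u}}
    (a : X₀ ⟶ Spec (CommRingCat.of k)) [SmoothOfRelativeDimension 1 a] [IsSeparated a] [QuasiCompact a]
    [GeometricallyIrreducible a] :
    ∃ (C : Scheme.{u}) (f : C ⟶ Spec (CommRingCat.of k)) (j : X₀ ⟶ C), j ≫ f = a ∧ IsOpenImmersion j ∧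
      Curve.IsSmoothProperCurve k C f ∧ SmoothOfRelativeDimension 1 f ∧ GeometricallyIrreducible f ∧
      (Set.range j)ᶜ.Finite ∧ ∀ y ∈ (Set.range j)ᶜ, IsClosed ({y} : Set C) := by
  have hsm : Smooth a := SmoothOfRelativeDimension.smooth 1 a
  have hgi := Flat2B.SmoothGeom.geometricallyIntegral_of_smooth a
  have hint : IsIntegral X₀ := isIntegral_of_geometricallyIntegral a
  obtain ⟨C, f, j, hC, hjf, hp, hj, hd, hfin, hcl, hreg, -⟩ := NormalCompl.exists_normal_completion k a
    (fun x hx ↦ (GeoCompactField.stalk_props k a x).2.2 hx)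
    (fun x ↦ by
      obtain ⟨h1, h2, -⟩ := GeoCompactField.stalk_props k a x
      have := RegLow.isDomain _ h2
      have := RegLow.valuationRing _ h2
      exact ⟨inferInstance, BiratOpen.isIntegrallyClosed _ inferInstance⟩)
  obtain ⟨-, -, h1, -, -, -, -⟩ := GeoField.exists_of_compactification a f j hjf hd hfin hcl (fun y _ => hreg y)
  have hfs : Smooth f := SmoothOfRelativeDimension.smooth 1 f
  refine ⟨C, f, j, hjf, hj, ⟨hp, hfs, hC, ?_⟩, h1, ?_, hfin, hcl⟩
  · exact CurvesA.CSpecD1.topologicalKrullDim_eq_of_smoothOfRelativeDimension 1 f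
  · have hgi' : GeometricallyIrreducible (j ≫ f) := by rw [hjf]; infer_instance
    exact Pic13.H557.GeoOpen.geometricallyIrreducible_of_open f j hgi'

end K986.Compact
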