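import Groth.Agent.FinFr.K986.FrobFix
import Groth.Agent.Etcore.MuCard
import Groth.Agent.Etbase.PicTorsOpen

/-!
# Counting the classes killed by an integer
-/

set_option autoImplicit false
universe u
open CategoryTheory CategoryTheory.Limits AlgebraicGeometry Opposite CategoryTheory.Abelian
open scoped Groth.Agent.Etcore.EtInst Groth.Agent.Etcore.HC
open Groth.Agent.Etcore.EtInst

namespace K986.Count

open Groth.Agent Groth.Agent.Etcore Groth.Agent.Etcore.ZetaMap

theorem gcd_smul {A : Type*} [AddCommGroup A] (N m : ℕ) (hm : ∀ x : A, m • x = 0) (x : A) :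
    N • x = 0 ↔ Nat.gcd N m • x = 0 := by
  constructor
  · intro h
    rw [← addOrderOf_dvd_iff_nsmul_eq_zero] at h ⊢
    exact Nat.dvd_gcd h (addOrderOf_dvd_iff_nsmul_eq_zero.mpr (hm x))
  · intro h
    obtain ⟨c, hc⟩ := Nat.gcd_dvd_left N m
    conv_lhs => rw [hc, mul_comm, mul_smul, h, smul_zero]

variable {K : Type u} [Field K] [IsAlgClosed K] {X : Scheme.{u}} [IsIntegral X]
  (f : X ⟶ Spec (CommRingCat.of K)) [Smooth f] [IsSeparated f] [QuasiCompact f] (hdim : topologicalKrullDim X = 1)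

include f hdim in
/-- The number of classes in `H^1(X, ℤ/m)` killed by `N` is bounded independently of `m`. -/
theorem bound (N : ℕ) (hN : 1 ≤ N) (m : ℕ) (hm : (m : K) ≠ 0) :
    Finite {x : HH X (EtCoh.const X (ZMod m)) 1 // N • x = 0} ∧
      Nat.card {x : HH X (EtCoh.const X (ZMod m)) 1 // N • x = 0} ≤
        ∑ d ∈ N.divisors, Nat.card (EtCoh.H X (EtCoh.mu X d) 1) := by
  have hm0 : m ≠ 0 := by rintro rfl; exact hm Nat.cast_zero
  have : NeZero m := ⟨hm0⟩
  have : NeZero (m : K) := ⟨hm⟩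
  obtain ⟨ζ, hζ⟩ := HasEnoughRootsOfUnity.exists_primitiveRoot K m
  have hi := isIso_zmu m hζ (UnitKill.st f) hm
  let e : HH X (EtCoh.const X (ZMod m)) 1 ≃+ HH X (EtCoh.mu X m) 1 :=
    HHcongr (asIso (zmu m hζ (UnitKill.st f))) 1
  have hmu : ∀ y : HH X (EtCoh.mu X m) 1, m • y = 0 := MuCard.nsmul_H_mu X m 1
  let E : {x : HH X (EtCoh.const X (ZMod m)) 1 // N • x = 0} ≃
      {y : HH X (EtCoh.mu X m) 1 // Nat.gcd N m • y = 0} :=
    e.toEquiv.subtypeEquiv fun x => by
      rw [← gcd_smul N m hmu]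
      change N • x = 0 ↔ N • e x = 0
      rw [← map_nsmul, EmbeddingLike.map_eq_zero_iff]
  have hfin : Finite (HH X (EtCoh.mu X m) 1) :=
    Etbase.PicTors.finite_H1_mu_of_smooth f hdim (Nat.pos_of_ne_zero hm0) hm
  refine ⟨Finite.of_equiv _ E.symm, ?_⟩
  rw [Nat.card_congr E]
  have h1 := MuCard.card_torsion X f m (Nat.gcd N m) hm (Nat.gcd_dvd_right N m)
  refine (le_of_eq h1).trans ?_
  exact Finset.single_le_sum (f := fun d => Nat.card (EtCoh.H X (EtCoh.mu X d) 1)) (fun _ _ => Nat.zero_le _)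
    (Nat.mem_divisors.mpr ⟨Nat.gcd_dvd_left N m, by omega⟩)

end K986.Count
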