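import Groth.Agent.FinFr.K986.IntTrick
import Groth.Agent.AlgGrp.K406.UnitsFin
import Mathlib.AlgebraicGeometry.Morphisms.FiniteType
import Mathlib.AlgebraicGeometry.FunctionField

/-!
# Units of an integral scheme of finite type over an algebraically closed field under a semilinear endomorphism
-/

set_option autoImplicit false
universe u
open CategoryTheory CategoryTheory.Limits AlgebraicGeometry Opposite

namespace K986.UnitKill

variable {K : Type u} [Field K]

/-- The structure map of the global sections of a scheme over a field. -/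
noncomputable abbrev st {X : Scheme.{u}} (p : X ⟶ Spec (CommRingCat.of K)) : K →+* Γ(X, ⊤) :=
  p.appTop.hom.comp (Scheme.ΓSpecIso (CommRingCat.of K)).inv.hom

theorem st_comp {X Y : Scheme.{u}} (p : X ⟶ Spec (CommRingCat.of K)) (q : Y ⟶ Spec (CommRingCat.of K)) (g : X ⟶ Y)
    (τ : K →+* K) (hg : g ≫ q = p ≫ Spec.map (CommRingCat.ofHom τ)) :
    (st p).comp τ = g.appTop.hom.comp (st q) := by
  have h1 : (g ≫ q).appTop = (p ≫ Spec.map (CommRingCat.ofHom τ)).appTop := by rw [hg]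
  rw [Scheme.Hom.comp_appTop, Scheme.Hom.comp_appTop] at h1
  have h2 : (Scheme.ΓSpecIso (CommRingCat.of K)).inv ≫ (Spec.map (CommRingCat.ofHom τ)).appTop =
      CommRingCat.ofHom τ ≫ (Scheme.ΓSpecIso (CommRingCat.of K)).inv :=
    (Scheme.ΓSpecIso_inv_naturality (CommRingCat.ofHom τ)).symm
  ext a
  have h3 := congrArg (fun f => ((Scheme.ΓSpecIso (CommRingCat.of K)).inv ≫ f).hom a) h1
  have h4 : (((Scheme.ΓSpecIso (CommRingCat.of K)).inv ≫ (Spec.map (CommRingCat.ofHom τ)).appTop) ≫ p.appTop).hom a =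
      (((Scheme.ΓSpecIso (CommRingCat.of K)).inv) ≫ q.appTop ≫ g.appTop).hom a := by
    rw [Category.assoc]
    exact h3.symm
  rw [h2] at h4
  exact h4

/-- The restriction to an affine open, and finiteness of the sections. -/
theorem exists_restr [IsAlgClosed K] {X : Scheme.{u}} [IsIntegral X] (p : X ⟶ Spec (CommRingCat.of K))
    [LocallyOfFiniteType p] : ∃ (N : ℕ) (w : (Γ(X, ⊤))ˣ →* Multiplicative (Fin N → ℤ)),
      ∀ a, w a = 1 ↔ ∃ c : K, st p c = a := by
  obtain ⟨x⟩ : Nonempty X := inferInstance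
  obtain ⟨U, hU, hxU, -⟩ := exists_isAffineOpen_mem_and_subset (x := x) (U := ⊤) trivial
  have : Nonempty U := ⟨⟨x, hxU⟩⟩
  let r : Γ(X, ⊤) →+* Γ(X, U) := (X.presheaf.map (homOfLE le_top).op).hom
  have hr : Function.Injective r := map_injective_of_isIntegral X (homOfLE (le_top : U ≤ ⊤))
  let _ : Algebra K Γ(X, U) := (r.comp (st p)).toAlgebra
  have hft : Algebra.FiniteType K Γ(X, U) := by
    have h1 : (p.appLE ⊤ U (by simp)).hom.FiniteType :=
      LocallyOfFiniteType.finiteType_appLE (f := p) (isAffineOpen_top _) hU _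
    have h2 : ((Scheme.ΓSpecIso (CommRingCat.of K)).inv.hom).FiniteType :=
      RingHom.FiniteType.of_surjective _
        ((Scheme.ΓSpecIso (CommRingCat.of K)).symm.commRingCatIsoToRingEquiv.surjective)
    have h3 := h1.comp h2
    have h4 : (p.appLE ⊤ U (by simp)).hom.comp (Scheme.ΓSpecIso (CommRingCat.of K)).inv.hom = r.comp (st p) := by
      rw [st, ← RingHom.comp_assoc]
      congr 1
    rw [h4] at h3
    exact h3
  obtain ⟨N, w, hw⟩ := K406.UnitsFin.exists_hom K Γ(X, U)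
  refine ⟨N, w.comp (Units.map r.toMonoidHom), fun a => ?_⟩
  rw [MonoidHom.comp_apply, hw]
  constructor
  · rintro ⟨c, hc⟩
    exact ⟨c, hr hc⟩
  · rintro ⟨c, hc⟩
    exact ⟨c, by rw [Units.coe_map, ← hc]; rfl⟩

/-- **Unit part of the bound.** -/
theorem exists_kill [IsAlgClosed K] {X : Scheme.{u}} [IsIntegral X] (p : X ⟶ Spec (CommRingCat.of K))
    [LocallyOfFiniteType p] (g : X ⟶ X) (τ : K →+* K) (hg : (st p).comp τ = g.appTop.hom.comp (st p)) (Q : ℕ) (hQ : 2 ≤ Q) :
    ∃ N : ℕ, 1 ≤ N ∧ ∀ (m : ℕ) (_ : 0 < m) (u v : (Γ(X, ⊤))ˣ),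
      u = (Units.map g.appTop.hom.toMonoidHom u) ^ Q * v ^ m → ∃ v', v' ^ m = u ^ N := by
  obtain ⟨r, w, hw⟩ := exists_restr p
  obtain ⟨N, hN, h⟩ := K986.IntTrick.exists_unitKill w (Units.map g.appTop.hom.toMonoidHom) (fun a ha => by
    obtain ⟨c, hc⟩ := (hw a).mp ha
    refine (hw _).mpr ⟨τ c, ?_⟩
    rw [Units.coe_map, ← hc]
    exact congrArg (fun f : K →+* Γ(X, ⊤) => f c) hg) Q hQ
  refine ⟨N, hN, fun m hm u v huv => h m (fun a ha => ?_) u v huv⟩
  obtain ⟨c, hc⟩ := (hw a).mp ha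
  have hc0 : c ≠ 0 := by
    rintro rfl
    rw [map_zero] at hc
    exact a.ne_zero hc.symm
  obtain ⟨z, hz⟩ := IsAlgClosed.exists_pow_nat_eq c hm
  have hz0 : z ≠ 0 := by
    rintro rfl
    rw [zero_pow hm.ne'] at hz
    exact hc0 hz.symm
  refine ⟨Units.map (st p).toMonoidHom (Units.mk0 z hz0), Units.ext ?_⟩
  rw [Units.val_pow_eq_pow_val, Units.coe_map, ← hc, ← hz, map_pow]
  rfl

end K986.UnitKill
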