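import Groth.Agent.FinFr.K986.KumKill
import Groth.Agent.FinFr.K986.UnitKill
import Groth.Agent.Dix.K281.ClsPull
import Groth.Agent.Topos.H571.GmGlue
import Groth.Agent.CurvesA.H1GmPicSurj
import Groth.Agent.Sga4h.H913.ConstP

/-!
# Classes in `H^1(X_K, ℤ/n)` fixed by the geometric Frobenius: one integer kills them all
-/

set_option autoImplicit false
universe u
open CategoryTheory CategoryTheory.Limits AlgebraicGeometry Opposite CategoryTheory.Abelian
open scoped Groth.Agent.Etcore.EtInst Groth.Agent.Etcore.HC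
open Groth.Agent.Etcore.EtInst

namespace K986.FrobFix

open Groth.Agent Groth.Agent.Etcore Groth.Agent.Etcore.HQ Groth.Agent.Etcore.PullCoh
open Groth.Agent.Etcore.HpullCalc Groth.Agent.Etcore.KummerCls Groth.Agent.Etcore.ZetaMap
open Groth.Agent.Etcore.HC Groth.Agent.Grpsch.PicGrp Groth.Agent.CurvesA.H1GmPic

section tr

variable {X Y : Scheme.{u}} (π : X ⟶ Y) (M : Type) [AddCommGroup M]

/-- The comparison `H^i(X, π⁻¹ M) ≅ H^i(X, M)`. -/
noncomputable def tc (i : ℕ) : HQ (EtCoh.const Y M) π i →+ HH X (EtCoh.const X M) i :=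
  HHmap (EtCore.pullConst π M).hom i

theorem tc_bijective (i : ℕ) : Function.Bijective (tc π M i) := HHmap_bijective (EtCore.pullConst π M).hom i

theorem tc_res (g : X ⟶ X) (w : g ≫ π = π) (i : ℕ) (x : HQ (EtCoh.const Y M) π i) :
    tc π M i (res _ g w i x) = HC.HC M g i (tc π M i x) := by
  rw [tc, res_apply, ← HHmap_comp, ← pullConst_comp g π π w M, HHmap_comp, HC.HC_apply, hp_map]

end tr

section gm

variable {X : Scheme.{u}}

theorem HG_clsHom {Y : Scheme.{u}} (g : X ⟶ Y) (c : Pic Y) :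
    HG g 1 (clsHom Y (Additive.ofMul c)) = clsHom X (Additive.ofMul (pull g c)) := by
  have : PreservesFiniteLimits (EtCoh.pull g) := inferInstance
  induction c using ind with | _ L hL => ?_
  rw [pull_mk, clsHom_mk, clsHom_mk]
  exact (Topos.H571.GmGlue.HGmPull_eq g 1 (clsL L hL)).symm.trans (K281.ClsPull.HGmPull_clsL g L hL _)

/-- Transfer from `Pic` to `H^1(G_m)`. -/
theorem kill_gm (g : X ⟶ X) (Q N : ℕ) (h : ∀ z : Pic X, (pull g z) ^ Q = z → z ^ N = 1)
    (z : HH X (EtCoh.Gm X) 1) (hz : Q • HG g 1 z = z) : N • z = 0 := by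
  obtain ⟨c, rfl⟩ := clsHom_surjective X z
  have h1 : Q • HG g 1 (clsHom X c) = clsHom X (Additive.ofMul ((pull g c.toMul) ^ Q)) := by
    rw [ofMul_pow, map_nsmul, ← HG_clsHom]
    rfl
  have h2 : clsHom X (Additive.ofMul ((pull g c.toMul) ^ Q)) = clsHom X c := h1.symm.trans hz
  have h3 := clsHom_injective X h2
  have h4 := h c.toMul (congrArg Additive.toMul h3)
  have h5 : N • c = 0 := h4
  exact (map_nsmul (clsHom X) N c).symm.trans (by rw [h5, map_zero])

end gm

section main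

variable {k K : Type u} [Field k] [Finite k] [Field K] [Algebra k K] [IsAlgClosed K] {X₀ : Scheme.{u}}
  (a : X₀ ⟶ Spec (CommRingCat.of k)) [IsIntegral (FinFr.ext K a)] [LocallyOfFiniteType a]
  (τ : K ≃ₐ[k] K) (hτ : ∀ c, (τ c) ^ (Nat.card k) = c)

include hτ in
/-- **One integer kills the classes fixed by the geometric Frobenius.** -/
theorem exists_kill (N1 : ℕ) (hN1 : 1 ≤ N1) (h1 : ∀ z : Pic (FinFr.ext K a),
      (pull (FinFr.galAct a τ) z) ^ (Nat.card k) = z → z ^ N1 = 1) :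
    ∃ N : ℕ, 1 ≤ N ∧ ∀ (m : ℕ) (_ : (m : K) ≠ 0) (x : HH (FinFr.ext K a) (EtCoh.const _ (ZMod m)) 1),
      HC.HC (ZMod m) (FinFr.galAct a τ) 1 x = x → N • x = 0 := by
  have hst := UnitKill.st_comp (FinFr.extStr K a) (FinFr.extStr K a) (FinFr.galAct a τ) (τ : K →+* K)
    (FinFr.galAct_snd a τ)
  have hlft : LocallyOfFiniteType (FinFr.extStr K a) :=
    inferInstanceAs (LocallyOfFiniteType (pullback.snd a (FinFr.specι k K)))
  obtain ⟨N2, hN2, h2⟩ := UnitKill.exists_kill (FinFr.extStr K a) (FinFr.galAct a τ) (τ : K →+* K) hst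
    (Nat.card k) Finite.one_lt_card
  refine ⟨N2 * N1, Nat.mul_pos hN2 hN1, fun m hm x hx => ?_⟩
  have hm0 : m ≠ 0 := by rintro rfl; exact hm Nat.cast_zero
  have : NeZero m := ⟨hm0⟩
  have : NeZero (m : K) := ⟨hm⟩
  obtain ⟨ζ, hζ⟩ := HasEnoughRootsOfUnity.exists_primitiveRoot K m
  exact KumKill.kill hζ (UnitKill.st (FinFr.extStr K a)) hm (FinFr.galAct a τ) (τ : K →+* K) (Nat.card k)
    hτ hst N1 N2 (kill_gm _ _ _ h1) (fun u v huv => h2 m (Nat.pos_of_ne_zero hm0) u v huv) x hx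

end main

end K986.FrobFix
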