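import Mathlib.RingTheory.Polynomial.ScaleRoots
import Mathlib.LinearAlgebra.Matrix.Charpoly.LinearMap
import Mathlib.LinearAlgebra.Charpoly.Basic
import Mathlib.RingTheory.Noetherian.Basic
import Mathlib.RingTheory.PrincipalIdealDomain

/-!
# An endomorphism `φ` of a finitely generated abelian group: `Qφ - 1` divides a non-zero integer (`Q ≥ 2`)
-/

set_option autoImplicit false

open Polynomial

namespace K986.IntTrick

theorem eval_one_ne_zero (P : ℤ[X]) (hP : P.Monic) (Q : ℕ) (hQ : 2 ≤ Q) : (P.scaleRoots (Q : ℤ)).eval 1 ≠ 0 := by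
  intro h
  have h1 : (P.scaleRoots (Q : ℤ)).eval 1 = ∑ i ∈ Finset.range (P.natDegree + 1), P.coeff i * (Q : ℤ) ^ (P.natDegree - i) := by
    rw [eval_eq_sum_range, natDegree_scaleRoots]
    refine Finset.sum_congr rfl fun i _ => ?_
    rw [coeff_scaleRoots, one_pow, mul_one]
  rw [h1, Finset.sum_range_succ, Nat.sub_self, pow_zero, mul_one, hP.coeff_natDegree] at h
  have h2 : (Q : ℤ) ∣ ∑ i ∈ Finset.range P.natDegree, P.coeff i * (Q : ℤ) ^ (P.natDegree - i) := by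
    refine Finset.dvd_sum fun i hi => ?_
    have hi' : P.natDegree - i ≠ 0 := by
      have := Finset.mem_range.mp hi
      omega
    exact Dvd.dvd.mul_left (dvd_pow_self _ hi') _
  have h3 : (Q : ℤ) ∣ 1 := by
    have h4 : (1 : ℤ) = 0 - ∑ i ∈ Finset.range P.natDegree, P.coeff i * (Q : ℤ) ^ (P.natDegree - i) := by
      linarith
    rw [h4]
    exact dvd_sub (dvd_zero _) h2
  have h5 := Int.le_of_dvd one_pos h3
  omega

/-- There are `N ≥ 1` and `R` commuting with `Qφ - 1` whose product is `N`. -/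
theorem exists_inv {M : Type*} [AddCommGroup M] [Module.Finite ℤ M] (φ : Module.End ℤ M) (Q : ℕ) (hQ : 2 ≤ Q) :
    ∃ (N : ℕ) (R : Module.End ℤ M), 1 ≤ N ∧ ((Q : ℤ) • φ - 1) * R = (N : ℤ) • 1 ∧ R * ((Q : ℤ) • φ - 1) = (N : ℤ) • 1 := by
  obtain ⟨P, hP, hP0⟩ := LinearMap.exists_monic_and_aeval_eq_zero ℤ φ
  have h1 : aeval ((Q : ℤ) • φ) (P.scaleRoots (Q : ℤ)) = 0 := by
    rw [aeval_eq_sum_range, natDegree_scaleRoots]
    rw [aeval_eq_sum_range] at hP0
    have h2 : ∀ i ∈ Finset.range (P.natDegree + 1), (P.scaleRoots (Q : ℤ)).coeff i • ((Q : ℤ) • φ) ^ i =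
        (Q : ℤ) ^ P.natDegree • (P.coeff i • φ ^ i) := by
      intro i hi
      have hi' : i ≤ P.natDegree := Nat.lt_succ_iff.mp (Finset.mem_range.mp hi)
      rw [coeff_scaleRoots, smul_pow, smul_smul, smul_smul, mul_assoc, ← pow_add, Nat.sub_add_cancel hi', mul_comm]
    rw [Finset.sum_congr rfl h2, ← Finset.smul_sum, hP0, smul_zero]
  obtain ⟨R₀, hR₀⟩ : (X - C 1 : ℤ[X]) ∣ P.scaleRoots (Q : ℤ) - C ((P.scaleRoots (Q : ℤ)).eval 1) :=
    X_sub_C_dvd_sub_C_eval
  set N₀ : ℤ := (P.scaleRoots (Q : ℤ)).eval 1 with hN₀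
  have hN₀0 : N₀ ≠ 0 := eval_one_ne_zero P hP Q hQ
  have h3 : ((Q : ℤ) • φ - 1) * aeval ((Q : ℤ) • φ) R₀ = (-N₀) • 1 := by
    have h4 := congrArg (aeval ((Q : ℤ) • φ)) hR₀
    rw [map_sub, h1, map_mul, map_sub, aeval_X, aeval_C, aeval_C, map_one, zero_sub] at h4
    rw [← h4, neg_smul]
    congr 1
  have hcomm : Commute ((Q : ℤ) • φ - 1) (aeval ((Q : ℤ) • φ) R₀) := by
    have h5 : ((Q : ℤ) • φ - 1) = aeval ((Q : ℤ) • φ) (X - C 1 : ℤ[X]) := by
      rw [map_sub, aeval_X, aeval_C, map_one]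
    rw [h5, Commute, SemiconjBy, ← map_mul, ← map_mul, mul_comm]
  obtain ⟨s, hs⟩ : ∃ s : ℤ, s * (-N₀) = (N₀.natAbs : ℤ) := by
    rcases le_total 0 N₀ with h | h
    · exact ⟨-1, by rw [neg_one_mul, neg_neg, Int.natAbs_of_nonneg h]⟩
    · exact ⟨1, by rw [one_mul, Int.ofNat_natAbs_of_nonpos h]⟩
  refine ⟨N₀.natAbs, s • aeval ((Q : ℤ) • φ) R₀, Nat.one_le_iff_ne_zero.mpr (Int.natAbs_ne_zero.mpr hN₀0), ?_, ?_⟩
  · rw [mul_smul_comm, h3, smul_smul, hs]
  · rw [smul_mul_assoc, ← hcomm.eq, h3, smul_smul, hs]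

/-- Let `u = (φ u)^Q v^m` in a commutative group `G` with a divisible kernel of `w : G → ℤ^r` stable under `φ`: then
`u ^ N` is an `m`-th power, with `N` independent of `m` and `u`. -/
theorem exists_unitKill {G : Type*} [CommGroup G] {r : ℕ} (w : G →* Multiplicative (Fin r → ℤ)) (φ : G →* G)
    (hφ : ∀ g, w g = 1 → w (φ g) = 1) (Q : ℕ) (hQ : 2 ≤ Q) :
    ∃ N : ℕ, 1 ≤ N ∧ ∀ (m : ℕ) (_ : ∀ h, w h = 1 → ∃ h', h' ^ m = h) (u v : G), u = (φ u) ^ Q * v ^ m → ∃ v', v' ^ m = u ^ N := by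
  let W : Additive G →+ (Fin r → ℤ) := MonoidHom.toAdditiveLeft w
  let M := W.range
  have : Module.Finite ℤ M := by
    have h1 : Module.Finite ℤ (AddSubgroup.toIntSubmodule M) := inferInstance
    exact h1
  have hker : ∀ x : Additive G, W x = 0 → W (Additive.ofMul (φ x.toMul)) = 0 := fun x hx => hφ x.toMul hx
  let Φ : Additive G →+ Additive G := MonoidHom.toAdditive φ
  have hk : W.ker ≤ (W.rangeRestrict.comp Φ).ker := fun x hx => Subtype.ext (hker x hx)
  let ψ : M →+ M := (QuotientAddGroup.lift W.ker (W.rangeRestrict.comp Φ) hk).comp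
      (QuotientAddGroup.quotientKerEquivRange W).symm.toAddMonoidHom
  have hψ : ∀ x : Additive G, ψ (W.rangeRestrict x) = W.rangeRestrict (Φ x) := by
    intro x
    have h1 : (QuotientAddGroup.quotientKerEquivRange W).symm (W.rangeRestrict x) = (x : Additive G ⧸ W.ker) := by
      rw [AddEquiv.symm_apply_eq]
      rfl
    change QuotientAddGroup.lift W.ker _ hk ((QuotientAddGroup.quotientKerEquivRange W).symm (W.rangeRestrict x)) = _
    rw [h1]
    rfl
  obtain ⟨N, R, hN, -, hR⟩ := exists_inv (M := M) ψ.toIntLinearMap Q hQ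
  refine ⟨N, hN, fun m hdiv u v huv => ?_⟩
  obtain ⟨y, hy⟩ := W.rangeRestrict_surjective (R (W.rangeRestrict (Additive.ofMul v)))
  have h1 : W.rangeRestrict (Additive.ofMul u) = (Q : ℤ) • ψ (W.rangeRestrict (Additive.ofMul u)) +
      (m : ℤ) • W.rangeRestrict (Additive.ofMul v) := by
    rw [hψ]
    conv_lhs => rw [huv]
    rw [ofMul_mul, ofMul_pow, ofMul_pow, map_add, map_nsmul, map_nsmul, natCast_zsmul, natCast_zsmul]
    rfl
  have h2 : ((Q : ℤ) • ψ.toIntLinearMap - 1) (W.rangeRestrict (Additive.ofMul u)) =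
      -((m : ℤ) • W.rangeRestrict (Additive.ofMul v)) := by
    rw [LinearMap.sub_apply, LinearMap.smul_apply]
    change (Q : ℤ) • ψ (W.rangeRestrict (Additive.ofMul u)) - W.rangeRestrict (Additive.ofMul u) = _
    rw [sub_eq_iff_eq_add, eq_neg_add_iff_add_eq, add_comm]
    exact h1.symm
  have h3 : (N : ℤ) • W.rangeRestrict (Additive.ofMul u) = -((m : ℤ) • W.rangeRestrict y) := by
    have h4 := congrArg (fun T : Module.End ℤ M => T (W.rangeRestrict (Additive.ofMul u))) hR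
    change R (((Q : ℤ) • ψ.toIntLinearMap - 1) (W.rangeRestrict (Additive.ofMul u))) =
      (N : ℤ) • W.rangeRestrict (Additive.ofMul u) at h4
    rw [← h4, h2, map_neg, map_smul, ← hy]
  have h4 : w (u ^ N * y.toMul ^ m) = 1 := by
    have h5 : W (N • Additive.ofMul u + m • y) = 0 := by
      have h6 := congrArg (Subtype.val) h3
      change (N : ℤ) • W (Additive.ofMul u) = -((m : ℤ) • W y) at h6
      rw [map_add, map_nsmul, map_nsmul, ← natCast_zsmul, ← natCast_zsmul, h6, neg_add_cancel]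
    exact h5
  obtain ⟨h', hh'⟩ := hdiv _ h4
  refine ⟨h' * (y.toMul)⁻¹, ?_⟩
  rw [mul_pow, hh', inv_pow, mul_inv_cancel_right]

end K986.IntTrick
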