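import Groth.Agent.Sga7.H780.JK
import Groth.Agent.Sga7.H732.Abel
import Groth.Agent.AbVar.K522.RH
import Groth.Agent.AbVar.K522.Bridge
import Groth.Agent.Etcore.FibreDeg
import Mathlib.AlgebraicGeometry.Group.Abelian

/-!
# Line bundles `z` on a curve over an algebraic closure of `𝔽_q` with `(g^* z)^q = z`, `g` the geometric Frobenius

`exists_kill_pts`: for an abelian variety `J` over the finite field `k` with `q` elements there is `N ≥ 1` killing the
points `t : T ⟶ J` with `(h ≫ t)^q = t`, `h` the inverse of the Frobenius of `T` (Riemann hypothesis for `J`).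
`exists_kill_pic`: the same for `Pic(C_K)`, `C` a smooth proper geometrically irreducible curve with a rational point.
-/

set_option autoImplicit false
universe u

open CategoryTheory CategoryTheory.Limits AlgebraicGeometry MonObj MonoidalCategory CartesianMonoidalCategory Polynomial

namespace K986.JacKill

open Groth.Agent Groth.Agent.Grpsch.PicGrp Groth.Agent.Fga.RigGrp Groth.Agent.Fga.JacSum Groth.Agent.Fga
open Groth.Agent.Sga7.H732 Groth.Agent.Sga7.H732.Hedge Groth.Agent.Sga7.H732.Abel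
open K520.Frob

section poly

variable {E M : Type*} [Ring E] [AddCommGroup M] (ρ : E →+* Module.End ℤ M) (π : E) (t : M) (q : ℤ)

theorem pow_apply (h : ρ π t = q • t) (n : ℕ) : ρ (π ^ n) t = q ^ n • t := by
  induction n with
  | zero => rw [pow_zero, map_one, pow_zero, one_smul]; rfl
  | succ n ih => rw [pow_succ', map_mul, Module.End.mul_apply, ih, map_smul, h, smul_smul, pow_succ]

theorem eval₂_apply (h : ρ π t = q • t) (P : ℤ[X]) :
    ρ (P.eval₂ (Int.castRingHom E) π) t = (P.eval q) • t := by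
  induction P using Polynomial.induction_on' with
  | add P Q hP hQ => rw [eval₂_add, map_add, LinearMap.add_apply, hP, hQ, eval_add, add_smul]
  | monomial n a =>
    rw [eval₂_monomial, map_mul, Module.End.mul_apply, pow_apply ρ π t q h, eval_monomial, map_smul, eq_intCast,
      map_intCast, Module.End.intCast_apply, smul_smul, mul_comm]

theorem eval_ne_zero (m : ℤ[X]) (q : ℕ) (hq : 2 ≤ q)
    (h : ∀ α : ℂ, (m.map (Int.castRingHom ℂ)).eval α = 0 → ‖α‖ ^ 2 = q) : m.eval (q : ℤ) ≠ 0 := by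
  intro h0
  have h1 : (m.map (Int.castRingHom ℂ)).eval (q : ℂ) = 0 := by
    have h2 := Polynomial.eval_intCast_map (Int.castRingHom ℂ) m (q : ℤ)
    rw [Int.cast_id, h0, map_zero] at h2
    exact_mod_cast h2
  have h3 := h _ h1
  have h4 : ‖(q : ℂ)‖ = q := Complex.norm_natCast q
  rw [h4] at h3
  have h5 : (2 : ℝ) ≤ q := by exact_mod_cast hq
  nlinarith

end poly

/-- **Points of an abelian variety over a finite field.** -/
theorem exists_kill_pts {k : Type u} [Field k] [Finite k] (J : Over (Spec (CommRingCat.of k))) [GrpObj J]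
    [IsProper J.hom] [GeometricallyIntegral J.hom] :
    ∃ N : ℕ, 1 ≤ N ∧ ∀ (T : Over (Spec (CommRingCat.of k))) (h : T ⟶ T) (_ : fr k T ≫ h = 𝟙 T) (t : T ⟶ J),
      (h ≫ t) ^ (Nat.card k) = t → t ^ N = 1 := by
  have := isCommMonObj_of_isProper_of_geometricallyIntegral J
  let π : EndAV.End J := EndAV.End.of (fr k J)
  have hπ : IsFrob (Nat.card k) π.toHom.left := isFrob_fr k J
  have hfin : Module.Finite ℤ (EndAV.End J) := K522.Bridge.finite_hom J J
  obtain ⟨P, hP, hP0⟩ := Algebra.IsIntegral.isIntegral (R := ℤ) π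
  have hcast : algebraMap ℤ (EndAV.End J) = Int.castRingHom (EndAV.End J) := RingHom.ext_int _ _
  rw [hcast] at hP0
  obtain ⟨m, hm, -, hm0, -, hroot⟩ := K522.RH.exists_min (Nat.card k) Nat.card_pos.ne' π hπ P hP hP0
  have hq : 2 ≤ Nat.card k := Finite.one_lt_card
  refine ⟨(m.eval (Nat.card k : ℤ)).natAbs, Nat.one_le_iff_ne_zero.mpr
    (Int.natAbs_ne_zero.mpr (eval_ne_zero m _ hq hroot)), fun T h hh t ht => ?_⟩
  have h1 : t ≫ fr k J = t ^ (Nat.card k) := by
    have e : fr k T ≫ (h ≫ t) ^ (Nat.card k) = (fr k T ≫ h ≫ t) ^ (Nat.card k) := comp_pow _ _ _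
    rw [ht, ← Category.assoc, hh, Category.id_comp, fr_comm] at e
    exact e
  have h2 : EndAV.End.ptsRep T π (Additive.ofMul t) = (Nat.card k : ℤ) • Additive.ofMul t := by
    rw [EndAV.End.ptsRep_apply, natCast_zsmul]
    exact congrArg Additive.ofMul h1
  have h3 := eval₂_apply (EndAV.End.ptsRep T) π (Additive.ofMul t) _ h2 m
  rw [hm0, map_zero, LinearMap.zero_apply] at h3
  have h4 : t ^ (m.eval (Nat.card k : ℤ)) = 1 := congrArg Additive.toMul h3.symm
  have h5 : t ^ ((m.eval (Nat.card k : ℤ)).natAbs : ℤ) = 1 := by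
    rcases Int.natAbs_eq (m.eval (Nat.card k : ℤ)) with h6 | h6
    · rw [← h6, h4]
    · have h7 : ((m.eval (Nat.card k : ℤ)).natAbs : ℤ) = -(m.eval (Nat.card k : ℤ)) := by omega
      rw [h7, zpow_neg, h4, inv_one]
  rwa [zpow_natCast] at h5

section pic

variable {k : Type u} [Field k] [Finite k] {C : Scheme.{u}} (f : C ⟶ Spec (CommRingCat.of k))

theorem toCl_eq {Y : Scheme.{u}} (c : Pic Y) : Groth.Agent.Fga.RigGrp.toCl c = Groth.Agent.Etcore.FibreDeg.toCl c := by
  induction c using ind with | _ L hL => ?_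
  rfl

/-- The degree vanishes. -/
theorem fdeg_eq_zero [IsProper f] [Smooth f] [GeometricallyIrreducible f] (hdim : topologicalKrullDim C = 1)
    (K : Type u) [Field K] [Algebra k K] (h : SGA7.pt (K := k) K ⟶ SGA7.pt (K := k) K) (q : ℕ) (hq : 2 ≤ q)
    (z : Pic (PicF.XT f (SGA7.pt (K := k) K))) (hz : (pull (PicF.XTmap f h) z) ^ q = z)
    (t : (SGA7.pt (K := k) K).left) : Etcore.FibreDeg.fdeg f (SGA7.pt K) t z = 0 := by
  have hpow : ∀ (n : ℕ) (c : Pic (PicF.XT f (SGA7.pt (K := k) K))),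
      Etcore.FibreDeg.fdeg f (SGA7.pt K) t (c ^ n) = n * Etcore.FibreDeg.fdeg f (SGA7.pt K) t c := by
    intro n c
    induction n with
    | zero => rw [pow_zero, Etcore.FibreDeg.fdeg_one f]; simp
    | succ n ih => rw [pow_succ, Etcore.FibreDeg.fdeg_mul f hdim, ih]; push_cast; ring
  have h1 := Etcore.FibreDeg.fdeg_pull f h t z
  have h2 : h.left t = t := Subsingleton.elim (α := PrimeSpectrum K) _ _
  rw [h2] at h1
  have h3 := hpow q (pull (PicF.XTmap f h) z)
  rw [hz, h1] at h3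
  have h4 : ((q : ℤ) - 1) * Etcore.FibreDeg.fdeg f (SGA7.pt K) t z = 0 := by linarith
  rcases mul_eq_zero.mp h4 with h5 | h5
  · exfalso
    have : (2 : ℤ) ≤ q := by exact_mod_cast hq
    linarith
  · exact h5

/-- **Line bundles on a curve with a rational point.** -/
theorem exists_kill_pic (hX : Curve.IsSmoothProperCurve k C f) [GeometricallyIrreducible f]
    (σ : Spec (CommRingCat.of k) ⟶ C) (hσ : σ ≫ f = 𝟙 _) :
    ∃ N : ℕ, 1 ≤ N ∧ ∀ (K : Type u) [Field K] [Algebra k K] (h : SGA7.pt (K := k) K ⟶ SGA7.pt (K := k) K)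
      (_ : fr k (SGA7.pt K) ≫ h = 𝟙 _) (z : Pic (PicF.XT f (SGA7.pt (K := k) K))),
      (pull (PicF.XTmap f h) z) ^ (Nat.card k) = z → z ^ N = 1 := by
  obtain ⟨hp, hs, hint, hdim⟩ := id hX
  have hgi := Flat2B.SmoothGeom.geometricallyIntegral_of_smooth f
  obtain ⟨J, hG, ξ, hJp, hJg, hJ⟩ := Groth.Agent.Sga7.H780.JK.jk k C f hX hgi σ hσ
  have hq : 2 ≤ Nat.card k := Finite.one_lt_card
  obtain ⟨N, hN, hkill⟩ := exists_kill_pts J
  refine ⟨N, hN, fun K _ _ h hh z hz => ?_⟩
  have hmem : z ∈ Rg f σ hσ (SGA7.pt K) := by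
    rw [mem_Rg]
    exact pic_spec_local K _
  have hdeg : FGA.HasFibreDegreeZeroCl f (SGA7.pt K) (Groth.Agent.Fga.RigGrp.toCl z) := by
    rw [toCl_eq, Etcore.FibreDeg.hasFibreDegreeZeroCl_iff]
    exact fdeg_eq_zero f hdim K h _ hq z hz
  obtain ⟨t, ht, -⟩ := hJ.univ _ z hmem hdeg
  have h1 : cls hJ _ t = z := ht
  have h2 : (h ≫ t) ^ (Nat.card k) = t := by
    apply cls_injective hJ
    rw [map_pow, cls_comp, h1, hz]
  rw [← h1, ← map_pow, hkill _ h hh t h2, map_one]

end pic

end K986.JacKill
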