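import Groth.Agent.Vancyc.H29.KumTr

/-!
# Classes in `H^1(X, ℤ/n)` fixed by a semilinear endomorphism, through Kummer theory

`σ : K → Γ(X, ⊤)`, `g : X ⟶ X`, `τ : K → K` with `g^* σ = σ τ` and `τ(a) ^ Q = a` (for instance the inverse of the
arithmetic Frobenius).  For `x ∈ H^1(X, ℤ/n)` with `g^* x = x`:
* its image `z` in `H^1(X, G_m)` satisfies `Q • g^* z = z` (`fixed_zm`);
* if `z = 0` then `x` is the Kummer class of a unit `u` with `u = (g^* u)^Q v^n` (`exists_unit`);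
* `kill`: hence an integer killing `x`, independent of `n`, from the corresponding statements for units and `H^1(X, G_m)`.
-/

set_option autoImplicit false
universe u
open CategoryTheory CategoryTheory.Limits AlgebraicGeometry Opposite CategoryTheory.Abelian
open scoped Groth.Agent.Etcore.EtInst Groth.Agent.Etcore.HC
open Groth.Agent.Etcore.EtInst

namespace K986.KumKill

open Groth.Agent Groth.Agent.Etcore Groth.Agent.Etcore.HQ Groth.Agent.Etcore.PullCoh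
open Groth.Agent.Etcore.HpullCalc Groth.Agent.Etcore.KummerCls Groth.Agent.Etcore.ZetaMap
open Groth.Agent.Etcore.HC
open Groth.Agent.CurvesA.MuConst (unitOf ofUnit unitOf_injective unitOf_nsmul unitOf_ofUnit powMap_app)

theorem comp_nsmul' {C : Type*} [Category C] [Abelian C] [HasExt C] {A B D : C} {a b c : ℕ} (x : Ext A B a) (y : Ext B D b)
    (h : a + b = c) (n : ℕ) : x.comp (n • y) h = n • x.comp y h := by
  induction n with
  | zero => rw [zero_smul, zero_smul, Ext.comp_zero]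
  | succ n ih => rw [add_smul, one_smul, Ext.comp_add, ih, add_smul, one_smul]

variable {X : Scheme.{u}} {K : Type u} [Field K]

theorem HHmap_nsmul {F G : EtCoh.Ab X} (φ : F ⟶ G) (Q n : ℕ) (x : HH X F n) :
    HHmap (Q • φ) n x = Q • HHmap φ n x := by
  have h : Q • φ = φ ≫ (Q • 𝟙 G) := by rw [Preadditive.comp_nsmul, Category.comp_id]
  rw [h, HHmap_comp]
  exact Groth.Agent.Sga4B.KummerH1.comp_nsmul_id Q n _

theorem zm_comp_pow {n : ℕ} [NeZero n] {ζ : K} (hζ : IsPrimitiveRoot ζ n) (σ σ' : K →+* Γ(X, ⊤)) (Q : ℕ)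
    (h : ∀ a, (σ' a) ^ Q = σ a) : zm n hζ σ' ≫ EtCoh.powMap X Q = zm n hζ σ := by
  refine const_hom_ext _ _ fun m => ?_
  obtain ⟨k, hk⟩ : ∃ k : ℕ, (k : ZMod n) = m.down := ⟨m.down.val, ZMod.natCast_zmod_val _⟩
  rw [map_comp_app, powMap_app, zmap_cst, zmap_cst, ← hk, zsec_natCast, zsec_natCast, smul_comm]
  congr 1
  apply unitOf_injective
  rw [unitOf_nsmul]
  have e : zu n hζ σ' ^ Q = zu n hζ σ := by
    apply Units.ext
    rw [Units.val_pow_eq_pow_val, zu_val, zu_val, h]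
  exact (congrArg (· ^ Q) (unitOf_ofUnit (X := X) (U := EtCoh.top X) (zu n hζ σ'))).trans
    (e.trans (unitOf_ofUnit (X := X) (U := EtCoh.top X) (zu n hζ σ)).symm)

/-- Multiples of the maps `ℤ/n ⟶ G_m`. -/
theorem nsmul_zm {n : ℕ} [NeZero n] {ζ : K} (hζ : IsPrimitiveRoot ζ n) (σ σ' : K →+* Γ(X, ⊤)) (Q : ℕ)
    (h : ∀ a, (σ' a) ^ Q = σ a) : Q • zm n hζ σ' = zm n hζ σ := by
  rw [← zm_comp_pow hζ σ σ' Q h]
  change _ = zm n hζ σ' ≫ (Q • 𝟙 (EtCoh.Gm X))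
  rw [Preadditive.comp_nsmul, Category.comp_id]

/-- The morphism of Kummer sequences `(Q, 1, 1)`. -/
noncomputable def powHom {n : ℕ} [NeZero n] {ζ : K} (hζ : IsPrimitiveRoot ζ n) (σ σ' : K →+* Γ(X, ⊤)) (Q : ℕ)
    (h : ∀ a, (σ' a) ^ Q = σ a) :
    ShortComplex.mk (zm n hζ σ) (n • 𝟙 (EtCoh.Gm X)) (zm_comp n hζ σ) ⟶
      ShortComplex.mk (zm n hζ σ') (n • 𝟙 (EtCoh.Gm X)) (zm_comp n hζ σ') where
  τ₁ := Q • 𝟙 _
  τ₂ := 𝟙 _
  τ₃ := 𝟙 _
  comm₁₂ := by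
    change (Q • 𝟙 (EtCoh.const X (ZMod n))) ≫ zm n hζ σ' = zm n hζ σ ≫ 𝟙 _
    rw [Preadditive.nsmul_comp, Category.id_comp, Category.comp_id, nsmul_zm hζ σ σ' Q h]
  comm₂₃ := by
    change 𝟙 _ ≫ (n • 𝟙 (EtCoh.Gm X)) = (n • 𝟙 (EtCoh.Gm X)) ≫ 𝟙 _
    rw [Category.id_comp, Category.comp_id]

/-- Kummer classes for `σ'` and `σ = (σ')^Q`. -/
theorem kap_eq {n : ℕ} [NeZero n] {ζ : K} (hζ : IsPrimitiveRoot ζ n) (σ σ' : K →+* Γ(X, ⊤)) (Q : ℕ)
    (h : ∀ a, (σ' a) ^ Q = σ a) (hn : (n : K) ≠ 0) (v : (Γ(X, ⊤))ˣ) :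
    kap hζ σ' hn v = Q • kap hζ σ hn v := by
  have h1 := ShortComplex.ShortExact.extClass_naturality (shortExact_zeta n hζ σ hn) (shortExact_zeta n hζ σ' hn)
    (powHom hζ σ σ' Q h)
  have h2 : (Ext.mk₀ (powHom hζ σ σ' Q h).τ₃).comp (shortExact_zeta n hζ σ' hn).extClass (zero_add 1) =
      (shortExact_zeta n hζ σ' hn).extClass := Ext.mk₀_id_comp _
  rw [h2] at h1
  have h3 : (shortExact_zeta n hζ σ hn).extClass.comp (Ext.mk₀ (powHom hζ σ σ' Q h).τ₁) (add_zero 1) =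
      Q • (shortExact_zeta n hζ σ hn).extClass := Groth.Agent.Sga4B.KummerH1.comp_nsmul_id Q 1 _
  rw [h3] at h1
  rw [kap, kap, ← h1]
  exact comp_nsmul' _ _ _ _

section Fixed

variable {n : ℕ} [NeZero n] {ζ : K} (hζ : IsPrimitiveRoot ζ n) (σ : K →+* Γ(X, ⊤)) (hn : (n : K) ≠ 0)
  (g : X ⟶ X) (τ : K →+* K) (Q : ℕ) (hτ : ∀ a, (τ a) ^ Q = a) (hg : σ.comp τ = g.appTop.hom.comp σ)

include hτ in
theorem pow_comp (a : K) : ((σ.comp τ) a) ^ Q = σ a := by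
  rw [RingHom.comp_apply, ← map_pow, hτ]

include hτ hg in
/-- Fixed classes give `Q`-eigenclasses of line bundles. -/
theorem fixed_zm (x : HH X (EtCoh.const X (ZMod n)) 1) (hx : HC.HC (ZMod n) g 1 x = x) :
    Q • HG g 1 (HHmap (zm n hζ σ) 1 x) = HHmap (zm n hζ σ) 1 x := by
  rw [HG_map_zm hζ (σ.comp τ) g σ hg 1 x, hx, ← HHmap_nsmul, nsmul_zm hζ σ _ Q (pow_comp σ τ Q hτ)]

include hτ hg in
/-- Fixed classes dying in `H^1(X, G_m)`. -/
theorem exists_unit (x : HH X (EtCoh.const X (ZMod n)) 1) (hx : HC.HC (ZMod n) g 1 x = x)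
    (hz : HHmap (zm n hζ σ) 1 x = 0) :
    ∃ u v : (Γ(X, ⊤))ˣ, x = kap hζ σ hn u ∧ u = (Units.map g.appTop.hom.toMonoidHom u) ^ Q * v ^ n := by
  obtain ⟨u, rfl⟩ := exists_kap_eq hζ σ hn x hz
  have h1 := HC_kap hζ (σ.comp τ) hn g σ hg u (Units.map g.appTop.hom.toMonoidHom u) rfl
  rw [hx, kap_eq hζ σ _ Q (pow_comp σ τ Q hτ) hn, ← kap_pow] at h1
  have h2 : kap hζ σ hn (u * ((Units.map g.appTop.hom.toMonoidHom u) ^ Q)⁻¹) = 0 := by
    have h3 := kap_mul hζ σ hn (u * ((Units.map g.appTop.hom.toMonoidHom u) ^ Q)⁻¹)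
      ((Units.map g.appTop.hom.toMonoidHom u) ^ Q)
    rw [inv_mul_cancel_right, ← h1] at h3
    exact (add_eq_right.mp h3.symm)
  obtain ⟨v, hv⟩ := Groth.Agent.Vancyc.H29.KumTr.exists_pow_eq hζ σ hn _ h2
  refine ⟨u, v, rfl, ?_⟩
  rw [hv, mul_comm u, mul_inv_cancel_left]

include hζ hn hτ hg in
/-- **An integer killing the fixed classes.** -/
theorem kill (N1 N2 : ℕ) (h1 : ∀ z : HH X (EtCoh.Gm X) 1, Q • HG g 1 z = z → N1 • z = 0)
    (h2 : ∀ u v : (Γ(X, ⊤))ˣ, u = (Units.map g.appTop.hom.toMonoidHom u) ^ Q * v ^ n → ∃ v', v' ^ n = u ^ N2)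
    (x : HH X (EtCoh.const X (ZMod n)) 1) (hx : HC.HC (ZMod n) g 1 x = x) : (N2 * N1) • x = 0 := by
  have hx1 : HC.HC (ZMod n) g 1 (N1 • x) = N1 • x := by rw [map_nsmul, hx]
  have hz : HHmap (zm n hζ σ) 1 (N1 • x) = 0 := by
    rw [map_nsmul]
    exact h1 _ (fixed_zm hζ σ g τ Q hτ hg x hx)
  obtain ⟨u, v, hu, huv⟩ := exists_unit hζ σ hn g τ Q hτ hg (N1 • x) hx1 hz
  obtain ⟨v', hv'⟩ := h2 u v huv
  rw [mul_smul, hu, ← kap_pow, ← hv', kap_pow_self]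

end Fixed

end K986.KumKill
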