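import Groth.Agent.FinFr.K986.IntTrick

/-!
# Eigenclasses along a surjection with finitely generated kernel
-/

set_option autoImplicit false

namespace K986.LiftKill

/-- `r : A → B` surjective with finitely generated kernel, compatible with `G`, `g`.  If an integer kills the `a` with
`Q G a = a` then an integer kills the `b` with `Q g b = b`. -/
theorem exists_kill {A B : Type*} [AddCommGroup A] [AddCommGroup B] (r : A →+ B) (hr : Function.Surjective r)
    (S : Set A) (hS : S.Finite) (hker : ∀ a, r a = 0 → a ∈ AddSubgroup.closure S) (G : A →+ A) (g : B →+ B)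
    (hG : ∀ a, r (G a) = g (r a)) (Q : ℕ) (hQ : 2 ≤ Q) (N1 : ℕ) (hN1 : 1 ≤ N1)
    (h1 : ∀ a, Q • G a = a → N1 • a = 0) : ∃ N : ℕ, 1 ≤ N ∧ ∀ b, Q • g b = b → N • b = 0 := by
  let W : Submodule ℤ A := LinearMap.ker r.toIntLinearMap
  have hW : W ≤ Submodule.span ℤ S := by
    intro a ha
    have h2 : a ∈ AddSubgroup.closure S := hker a ha
    rw [← Submodule.span_int_eq_addSubgroupClosure] at h2
    exact h2
  have hfin : Module.Finite ℤ W := by
    have h2 : Module.Finite ℤ (Submodule.span ℤ S) := Module.Finite.iff_fg.mpr (Submodule.fg_span hS)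
    have h3 : IsNoetherian ℤ (Submodule.span ℤ S) := inferInstance
    exact Module.Finite.iff_fg.mpr (isNoetherian_submodule.mp h3 W hW)
  have hGW : ∀ a ∈ W, G.toIntLinearMap a ∈ W := by
    intro a ha
    change r (G a) = 0
    have h2 : r a = 0 := ha
    rw [hG, h2, map_zero]
  let φ : Module.End ℤ W := G.toIntLinearMap.restrict hGW
  obtain ⟨N, R, hN, hR, -⟩ := K986.IntTrick.exists_inv φ Q hQ
  refine ⟨N1 * N, Nat.mul_pos hN1 hN, fun b hb => ?_⟩
  obtain ⟨a, rfl⟩ := hr b
  have hw : Q • G a - a ∈ W := by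
    change r (Q • G a - a) = 0
    rw [map_sub, map_nsmul, hG, hb, sub_self]
  let w : W := ⟨Q • G a - a, hw⟩
  -- the corrected lift
  have h2 : (Q : ℤ) • G (R w : A) - (R w : A) = (N : ℤ) • (Q • G a - a) := by
    have h3 := congrArg (fun T : Module.End ℤ W => ((T w : W) : A)) hR
    exact h3
  have h3 : Q • G (N • a - (R w : A)) = N • a - (R w : A) := by
    rw [map_sub, map_nsmul, smul_sub]
    rw [natCast_zsmul, natCast_zsmul, smul_sub, smul_comm N Q] at h2
    rw [sub_eq_sub_iff_sub_eq_sub]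
    rw [← sub_eq_zero] at h2 ⊢
    rw [← neg_eq_zero, ← h2]
    abel
  have h4 := h1 _ h3
  have h5 : r (R w : A) = 0 := (R w).2
  have h6 := congrArg r h4
  rw [map_nsmul, map_sub, map_nsmul, h5, sub_zero, map_zero, smul_smul] at h6
  exact h6

end K986.LiftKill
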