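import Groth.Agent.FinFr.K986.JacKill
import Groth.Agent.Fga.HenselDVR
import Groth.Agent.AbVar.K522.FixPts
import Groth.Agent.CurvesA.CSpecD1
import Groth.Prelude.Def_FinFr

/-!
# Line bundles `z` on `C_K` with `(g^* z)^q = z`, without rational points
-/

set_option autoImplicit false
universe u

open CategoryTheory CategoryTheory.Limits AlgebraicGeometry

namespace K986.NoSec

open Groth.Agent Groth.Agent.Grpsch.PicGrp K520.Frob

section gal

variable {k K : Type u} [Field k] [Field K] [Algebra k K] {C : Scheme.{u}} (f : C ⟶ Spec (CommRingCat.of k))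

theorem galAct_one : FinFr.galAct f (1 : K ≃ₐ[k] K) = 𝟙 _ := by
  apply pullback.hom_ext
  · rw [FinFr.galAct_fst, Category.id_comp]
  · rw [FinFr.galAct_snd, Category.id_comp]
    have : Spec.map (CommRingCat.ofHom ((1 : K ≃ₐ[k] K) : K →+* K)) = 𝟙 _ := by
      rw [← Spec.map_id]
      rfl
    rw [this, Category.comp_id]

theorem galAct_mul (σ τ : K ≃ₐ[k] K) : FinFr.galAct f (σ * τ) = FinFr.galAct f σ ≫ FinFr.galAct f τ := by
  apply pullback.hom_ext
  · rw [FinFr.galAct_fst, Category.assoc, FinFr.galAct_fst, FinFr.galAct_fst]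
  · rw [FinFr.galAct_snd, Category.assoc, FinFr.galAct_snd, ← Category.assoc, FinFr.galAct_snd, Category.assoc,
      ← Spec.map_comp]
    rfl

theorem iter (τ : K ≃ₐ[k] K) (q : ℕ) (z : Pic (FinFr.ext K f)) (hz : (pull (FinFr.galAct f τ) z) ^ q = z) (r : ℕ) :
    (pull (FinFr.galAct f (τ ^ r)) z) ^ (q ^ r) = z := by
  induction r with
  | zero => rw [pow_zero, pow_zero, pow_one, galAct_one, pull_id]
  | succ r ih => rw [pow_succ', galAct_mul, pull_comp, pow_succ, pow_mul, ← map_pow, ih, hz]

theorem frob_comp {Q : ℕ} (F : Spec (CommRingCat.of K) ⟶ Spec (CommRingCat.of K)) (hF : IsFrob Q F) (τ : K →+* K)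
    (hτ : ∀ a, (τ a) ^ Q = a) : F ≫ Spec.map (CommRingCat.ofHom τ) = 𝟙 _ := by
  have h3 := K522.FixPts.preimage_apply (CommRingCat.of K) F hF
  rw [← Spec.map_preimage (R := CommRingCat.of K) (S := CommRingCat.of K) F, ← Spec.map_comp, ← Spec.map_id]
  congr 1
  ext a
  exact (h3 (τ a)).trans (hτ a)

end gal

/-- **Line bundles on a smooth proper curve over a finite field.** -/
theorem exists_kill_pic {k K : Type u} [Field k] [Finite k] [Field K] [Algebra k K] [IsAlgClosed K] {C : Scheme.{u}}
    (f : C ⟶ Spec (CommRingCat.of k)) (hX : Curve.IsSmoothProperCurve k C f) [SmoothOfRelativeDimension 1 f]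
    [GeometricallyIrreducible f] (τ : K ≃ₐ[k] K) (hτ : ∀ a, (τ a) ^ (Nat.card k) = a) :
    ∃ N : ℕ, 1 ≤ N ∧ ∀ z : Pic (FinFr.ext K f),
      (pull (FinFr.galAct f τ) z) ^ (Nat.card k) = z → z ^ N = 1 := by
  obtain ⟨hp, hs, hint, hdim⟩ := id hX
  obtain ⟨k', _, _, hfd, s, hs'⟩ := Fga.HenselDVR.exists_finite_point f
  let f' : FinFr.ext k' f ⟶ Spec (CommRingCat.of k') := FinFr.extStr k' f
  let ι : k' →ₐ[k] K := IsAlgClosed.lift
  let _ : Algebra k' K := ι.toRingHom.toAlgebra
  have : IsScalarTower k k' K := IsScalarTower.of_algebraMap_eq fun x => (ι.commutes x).symm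
  have : Finite k' := Module.finite_of_finite k
  have hcard : Nat.card k' = (Nat.card k) ^ (Module.finrank k k') := Module.natCard_eq_pow_finrank
  -- the curve over `k'`
  have hsm1 : SmoothOfRelativeDimension 1 f' := by
    have : MorphismProperty.IsStableUnderBaseChange (@SmoothOfRelativeDimension.{u} 1) :=
      smoothOfRelativeDimension_isStableUnderBaseChange 1
    exact MorphismProperty.of_isPullback (P := @SmoothOfRelativeDimension 1)
      (IsPullback.of_hasPullback f (FinFr.specι k k')) ‹_›
  have hsm' : Smooth f' := SmoothOfRelativeDimension.smooth 1 f'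
  have hgi := Flat2B.SmoothGeom.geometricallyIntegral_of_smooth f
  have hint' : IsIntegral (FinFr.ext k' f) :=
    GeometricallyIntegral.geometrically_isIntegral (f := f) (K := k') (FinFr.specι k k') (FinFr.extπ k' f) f'
      (IsPullback.of_hasPullback f (FinFr.specι k k'))
  have hX' : Curve.IsSmoothProperCurve k' (FinFr.ext k' f) f' :=
    ⟨inferInstanceAs (IsProper (pullback.snd f (FinFr.specι k k'))), hsm', hint',
      CurvesA.CSpecD1.topologicalKrullDim_eq_of_smoothOfRelativeDimension 1 f'⟩
  have hgirr : GeometricallyIrreducible f' :=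
    inferInstanceAs (GeometricallyIrreducible (pullback.snd f (FinFr.specι k k')))
  let s' : Spec (CommRingCat.of k') ⟶ FinFr.ext k' f := pullback.lift s (𝟙 _) (by rw [hs', Category.id_comp])
  have hs'' : s' ≫ f' = 𝟙 _ := pullback.lift_snd _ _ _
  obtain ⟨N, hN, hkill⟩ := JacKill.exists_kill_pic f' hX' s' hs''
  refine ⟨N, hN, fun z hz => ?_⟩
  -- the automorphism
  let r := Module.finrank k k'
  have hτr : ∀ a, ((τ ^ r : K ≃ₐ[k] K) a) ^ (Nat.card k') = a := by
    rw [hcard]
    intro a
    change ((τ ^ r : K ≃ₐ[k] K) a) ^ (Nat.card k ^ r) = a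
    induction r generalizing a with
    | zero => rw [pow_zero, pow_zero, pow_one]; rfl
    | succ r ih =>
      rw [pow_succ', pow_succ]
      change (τ ((τ ^ r : K ≃ₐ[k] K) a)) ^ (Nat.card k ^ r * Nat.card k) = a
      rw [mul_comm, pow_mul, hτ, ih]
  have hfix : ∀ c : k', (τ ^ r : K ≃ₐ[k] K) (algebraMap k' K c) = algebraMap k' K c := by
    intro c
    let _ := Fintype.ofFinite k'
    have h1 : c ^ Nat.card k' = c := by rw [Nat.card_eq_fintype_card]; exact FiniteField.pow_card c
    have h2 := hτr (algebraMap k' K c)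
    rw [← map_pow, ← map_pow, h1] at h2
    exact h2
  let h' : SGA7.pt (K := k') K ⟶ SGA7.pt (K := k') K :=
    Over.homMk (Spec.map (CommRingCat.ofHom ((τ ^ r : K ≃ₐ[k] K) : K →+* K))) (by
      change Spec.map _ ≫ Spec.map _ = Spec.map _
      rw [← Spec.map_comp]
      congr 1
      ext c
      exact hfix c)
  have hh' : fr k' (SGA7.pt K) ≫ h' = 𝟙 _ :=
    Over.OverMorphism.ext (frob_comp _ (isFrob_fr k' (SGA7.pt K)) _ hτr)
  -- transport
  have hcomp : Spec.map (CommRingCat.ofHom (algebraMap k' K)) ≫ FinFr.specι k k' = FinFr.specι k K := by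
    rw [FinFr.specι, FinFr.specι, ← Spec.map_comp]
    congr 1
    ext c
    exact (IsScalarTower.algebraMap_apply k k' K c).symm
  let v : PicF.XT f' (SGA7.pt K) ⟶ FinFr.ext K f :=
    pullback.lift (pullback.fst f' _ ≫ pullback.fst f _) (pullback.snd f' _) (by
      rw [Category.assoc, pullback.condition, ← Category.assoc]
      change (pullback.fst f' _ ≫ f') ≫ _ = _
      rw [pullback.condition, Category.assoc]
      congr 1)
  let e : FinFr.ext K f ⟶ PicF.XT f' (SGA7.pt K) :=
    pullback.lift (pullback.lift (pullback.fst f _) (pullback.snd f _ ≫ Spec.map (CommRingCat.ofHom (algebraMap k' K)))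
      (by rw [Category.assoc, hcomp, pullback.condition])) (pullback.snd f _) (by
        change pullback.lift _ _ _ ≫ pullback.snd _ _ = _
        rw [pullback.lift_snd]
        rfl)
  have hev : e ≫ v = 𝟙 _ := by
    apply pullback.hom_ext
    · rw [Category.assoc, Category.id_comp]
      change e ≫ pullback.lift _ _ _ ≫ pullback.fst _ _ = _
      rw [pullback.lift_fst, ← Category.assoc]
      change (pullback.lift _ _ _ ≫ pullback.fst _ _) ≫ _ = _
      rw [pullback.lift_fst, pullback.lift_fst]
    · rw [Category.assoc, Category.id_comp]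
      change e ≫ pullback.lift _ _ _ ≫ pullback.snd _ _ = _
      rw [pullback.lift_snd]
      change pullback.lift _ _ _ ≫ pullback.snd _ _ = _
      rw [pullback.lift_snd]
  have hequiv : PicF.XTmap f' h' ≫ v = v ≫ FinFr.galAct f (τ ^ r) := by
    apply pullback.hom_ext
    · rw [Category.assoc, Category.assoc, FinFr.galAct_fst]
      change PicF.XTmap f' h' ≫ pullback.lift _ _ _ ≫ pullback.fst _ _ = pullback.lift _ _ _ ≫ pullback.fst _ _
      rw [pullback.lift_fst, ← Category.assoc]
      congr 1
      exact Fga.RigGrp.XTmap_fst f' h'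
    · rw [Category.assoc, Category.assoc, FinFr.galAct_snd]
      change PicF.XTmap f' h' ≫ pullback.lift _ _ _ ≫ pullback.snd _ _ = pullback.lift _ _ _ ≫ pullback.snd _ _ ≫ _
      rw [pullback.lift_snd, ← Category.assoc, pullback.lift_snd]
      exact Fga.RigGrp.XTmap_XTproj f' h'
  have h1 := iter f τ (Nat.card k) z hz r
  have h2 : (pull (PicF.XTmap f' h') (pull v z)) ^ (Nat.card k') = pull v z := by
    rw [← pull_comp, hequiv, pull_comp, ← map_pow, hcard, h1]
  have h3 := hkill K h' hh' (pull v z) h2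
  have h4 := congrArg (pull e) h3
  rw [map_pow, ← pull_comp, hev, pull_id, map_one] at h4
  exact h4

end K986.NoSec
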