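import Groth.Agent.FinFr.K986.NoSec
import Groth.Agent.FinFr.K986.BdryGen
import Groth.Agent.FinFr.K986.LiftKill
import Groth.Agent.FinFr.K986.Compact
import Groth.Agent.Sga7.H732.C1
import Groth.Agent.CurvesC.Dim1Top

/-!
# Line bundles `z` on an open curve over an algebraic closure of `𝔽_q` with `(g^* z)^q = z`
-/

set_option autoImplicit false
universe u

open CategoryTheory CategoryTheory.Limits AlgebraicGeometry

namespace K986.OpenKill

open Groth.Agent Groth.Agent.Grpsch.PicGrp

/-- **Line bundles on a smooth curve over a finite field.** -/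
theorem exists_kill_open {k K : Type u} [Field k] [Finite k] [Field K] [Algebra k K] [IsAlgClosed K]
    {X₀ : Scheme.{u}} (a : X₀ ⟶ Spec (CommRingCat.of k)) [SmoothOfRelativeDimension 1 a] [IsSeparated a]
    [QuasiCompact a] [GeometricallyIrreducible a] (τ : K ≃ₐ[k] K) (hτ : ∀ a, (τ a) ^ (Nat.card k) = a) :
    ∃ N : ℕ, 1 ≤ N ∧ ∀ z : Pic (FinFr.ext K a),
      (pull (FinFr.galAct a τ) z) ^ (Nat.card k) = z → z ^ N = 1 := by
  obtain ⟨C, f, j, hjf, hj, hX, hsm, hgi, -, -⟩ := Compact.exists_compact k a
  obtain ⟨hp, hs, hint, hdim⟩ := id hX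
  obtain ⟨N1, hN1, hkill⟩ := NoSec.exists_kill_pic f hX τ hτ
  have hsa : Smooth a := SmoothOfRelativeDimension.smooth 1 a
  have hgia := Flat2B.SmoothGeom.geometricallyIntegral_of_smooth a
  have hgif := Flat2B.SmoothGeom.geometricallyIntegral_of_smooth f
  have hintX : IsIntegral (FinFr.ext K a) :=
    GeometricallyIntegral.geometrically_isIntegral (f := a) (K := K) (FinFr.specι k K) (FinFr.extπ K a) (FinFr.extStr K a)
      (IsPullback.of_hasPullback a (FinFr.specι k K))
  have hintC : IsIntegral (FinFr.ext K f) :=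
    GeometricallyIntegral.geometrically_isIntegral (f := f) (K := K) (FinFr.specι k K) (FinFr.extπ K f) (FinFr.extStr K f)
      (IsPullback.of_hasPullback f (FinFr.specι k K))
  let p : FinFr.ext K f ⟶ Spec (CommRingCat.of K) := FinFr.extStr K f
  have hp1 : SmoothOfRelativeDimension 1 p := by
    have : MorphismProperty.IsStableUnderBaseChange (@SmoothOfRelativeDimension.{u} 1) :=
      smoothOfRelativeDimension_isStableUnderBaseChange 1
    exact MorphismProperty.of_isPullback (P := @SmoothOfRelativeDimension 1)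
      (IsPullback.of_hasPullback f (FinFr.specι k K)) ‹_›
  have hpp : IsProper p := inferInstanceAs (IsProper (pullback.snd f (FinFr.specι k K)))
  have hLN : IsLocallyNoetherian (FinFr.ext K f) := LocallyOfFiniteType.isLocallyNoetherian p
  have hCS : CompactSpace (FinFr.ext K f) := QuasiCompact.compactSpace_of_compactSpace p
  have hN : IsNoetherian (FinFr.ext K f) := {}
  have hdimC : topologicalKrullDim (FinFr.ext K f) = 1 :=
    CurvesA.CSpecD1.topologicalKrullDim_eq_of_smoothOfRelativeDimension 1 p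
  -- the open immersion
  let J : FinFr.ext K a ⟶ FinFr.ext K f := pullback.lift (pullback.fst a _ ≫ j) (pullback.snd a _) (by
    rw [Category.assoc, hjf, pullback.condition])
  have hJ1 : J ≫ FinFr.extπ K f = FinFr.extπ K a ≫ j := pullback.lift_fst _ _ _
  have hJ2 : J ≫ FinFr.extStr K f = FinFr.extStr K a := pullback.lift_snd _ _ _
  have hJpb : IsPullback J (FinFr.extπ K a) (FinFr.extπ K f) j := by
    refine IsPullback.of_right (h₁₂ := FinFr.extStr K f) (h₂₂ := f) (v₁₃ := FinFr.specι k K) ?_ hJ1
      (IsPullback.of_hasPullback f (FinFr.specι k K)).flip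
    rw [hJ2, hjf]
    exact (IsPullback.of_hasPullback a (FinFr.specι k K)).flip
  have hJo : IsOpenImmersion J := MorphismProperty.of_isPullback hJpb.flip hj
  have hreg : Models.IsRegularScheme (FinFr.ext K f) := fun y => (Ega2.GeoCompactField.stalk_props K p y).1
  have hsurj : Function.Surjective (pull J : Pic (FinFr.ext K f) → Pic (FinFr.ext K a)) :=
    Sga7.H732.c1 _ _ J hreg
  have hne : (Set.range J)ᶜ ≠ Set.univ := by
    intro h
    obtain ⟨x⟩ : Nonempty (FinFr.ext K a) := inferInstance
    have : J x ∈ (Set.range J)ᶜ := by rw [h]; trivial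
    exact this ⟨x, rfl⟩
  have hcl : IsClosed (Set.range J)ᶜ := J.isOpenEmbedding.isOpen_range.isClosed_compl
  obtain ⟨S, hS, hgen⟩ := BdryGen.exists_finite_gen p J (CurvesC.Dim1Top.finite_of_isClosed hdimC.le hcl hne)
    (fun y hy => CurvesC.Dim1Top.isClosed_singleton_of_mem hdimC.le hcl hne hy)
  have hcomm : J ≫ FinFr.galAct f τ = FinFr.galAct a τ ≫ J := by
    apply pullback.hom_ext
    · rw [Category.assoc, Category.assoc, FinFr.galAct_fst, hJ1, ← Category.assoc, FinFr.galAct_fst]
    · rw [Category.assoc, Category.assoc, FinFr.galAct_snd, hJ2, ← Category.assoc, hJ2, FinFr.galAct_snd]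
  obtain ⟨N, hN, h⟩ := LiftKill.exists_kill (MonoidHom.toAdditive (pull J)) hsurj S hS (fun z hz => hgen z.toMul hz)
    (MonoidHom.toAdditive (pull (FinFr.galAct f τ))) (MonoidHom.toAdditive (pull (FinFr.galAct a τ)))
    (fun z => by
      change pull J (pull (FinFr.galAct f τ) z.toMul) = pull (FinFr.galAct a τ) (pull J z.toMul)
      rw [← pull_comp, ← pull_comp, hcomm]) (Nat.card k) Finite.one_lt_card N1 hN1 (fun z hz => hkill z.toMul hz)
  exact ⟨N, hN, fun z hz => h (Additive.ofMul z) hz⟩

end K986.OpenKill
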